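import Cfsg.Agent.Lib.Sporadic.J4Pres.Bound
import Cfsg.Agent.Lib.Sporadic.M24Gen
import Cfsg.Agent.Lib.Sporadic.Simple
import Cfsg.Agent.Lib.Sporadic.MathieuTwentyFourMultiplier
import Cfsg.Agent.Lib.Sporadic.J4Rep.Data
import Cfsg.Agent.Lib.Known.GLFourTwoFacts

/-!
# The seven relators present M24 (owner: helper21)
-/

set_option autoImplicit false
set_option maxRecDepth 20000

namespace CfsgLib.Sporadic.J4Pres

open Cfsg CfsgLib.Sporadic
open CfsgLib.Sporadic.J4Rep (permPacks genWords)

/-- The packed permutation of a letter. -/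
def pk (k : ℕ) : ℕ := permPacks.getD k pone

theorem exists_letter (k : ℕ) : ∃ σ : Equiv.Perm GolayPt, Rep σ (pk k) ∧ σ ∈ M24 := by
  by_cases hk : k < 4
  · have h : ∀ j < 4, okPerm (pk j) = true ∧
        forallLt 12 (fun i => inCode (mimg (pk j) (basisMask i))) = true := by
      intro j hj
      interval_cases j <;> exact ⟨by decide +kernel, by decide +kernel⟩
    obtain ⟨σ, hσ⟩ := exists_rep (h k hk).1
    exact ⟨σ, hσ, mem_M24_of_rep hσ (h k hk).2⟩
  · refine ⟨1, ?_, one_mem _⟩
    rw [pk, List.getD_eq_default _ _ (by rw [show permPacks.length = 4 from rfl]; omega)]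
    exact Rep.one

/-- A letter as an element of M24. -/
noncomputable def perm (k : ℕ) : ↥M24 := ⟨(exists_letter k).choose, (exists_letter k).choose_spec.2⟩

/-- The packed product of a word. -/
noncomputable def pword (w : List ℕ) : ℕ := List.rec pone (fun k _ ih => pmul (pk k) ih) w

theorem rep_word : ∀ w : List ℕ, Rep (((w.map perm).prod : ↥M24) : Equiv.Perm GolayPt) (pword w)
  | [] => Rep.one
  | k :: w => by
    rw [List.map_cons, List.prod_cons, Subgroup.coe_mul]
    exact (exists_letter k).choose_spec.1.mul (rep_word w)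

theorem word_eq_one {w : List ℕ} (h : Nat.beq (pword w) pone = true) : (w.map perm).prod = 1 := by
  apply Subtype.ext
  have h' := rep_word w
  rw [Nat.eq_of_beq_eq_true h] at h'
  exact h'.unique Rep.one

theorem pair_check : [[1, 0], [0, 1], [3, 2], [2, 3]].all (fun w => Nat.beq (pword w) pone) = true := by
  decide +kernel

theorem rels_check : words7.all (fun w => Nat.beq (pword w) pone) = true := by decide +kernel

/-- The images of the generators. -/
noncomputable def genPerm (i : Fin 2) : ↥M24 := perm (2 * i.val)

theorem lift_fr (k : ℕ) : FreeGroup.lift genPerm (fr k) = perm k := by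
  have h : ∀ w ∈ ([[1, 0], [0, 1], [3, 2], [2, 3]] : List (List ℕ)), (w.map perm).prod = 1 :=
    fun w hw => word_eq_one (List.all_eq_true.1 pair_check w hw)
  by_cases hk : k < 4
  · interval_cases k
    · simp [fr, genPerm]
    · simp [fr, genPerm]
      exact inv_eq_of_mul_eq_one_right (by simpa using h [0, 1] (by simp))
    · simp [fr, genPerm]
    · simp [fr, genPerm]
      exact inv_eq_of_mul_eq_one_right (by simpa using h [2, 3] (by simp))
  · have h1 : ¬ k / 2 < 2 := by omega
    have h2 : perm k = 1 := by
      apply Subtype.ext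
      have h' := (exists_letter k).choose_spec.1
      have e : pk k = pone := by
        rw [pk, List.getD_eq_default]
        rw [show permPacks.length = 4 from rfl]
        omega
      exact Rep.unique (e ▸ h') Rep.one
    simp [fr, h1, h2]

theorem lift_rels : ∀ r ∈ rels, FreeGroup.lift genPerm r = 1 := by
  rintro r ⟨w, hw, rfl⟩
  rw [map_list_prod, List.map_map, show (⇑(FreeGroup.lift genPerm) ∘ fr) = perm from funext lift_fr]
  exact word_eq_one (List.all_eq_true.1 rels_check w hw)

/-- The map onto M24. -/
noncomputable def toM24 : K0 →* ↥M24 := PresentedGroup.toGroup lift_rels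

theorem toM24_L (k : ℕ) : toM24 (L k) = perm k := lift_fr k

theorem toM24_surjective : Function.Surjective toM24 := by
  rw [← MonoidHom.range_eq_top, eq_top_iff]
  intro g _
  have hp : (genWords.map pword) =
      [974380510768821363662145534143076928, 1795248432537898728475572672376535,
        956302485175575353788796878166559809] := by decide +kernel
  have hword : ∀ w : List ℕ, (((w.map perm).prod : ↥M24) : Equiv.Perm GolayPt) ∈
      toM24.range.map M24.subtype := fun w =>
    ⟨_, ⟨(w.map L).prod, by
      rw [map_list_prod, List.map_map]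
      exact congrArg List.prod (List.map_congr_left fun k _ => toM24_L k)⟩, rfl⟩
  have key : ∀ σ : Equiv.Perm GolayPt, ∀ w : List ℕ, pword w = packOf σ → σ ∈ toM24.range.map M24.subtype := by
    intro σ w hw
    have h1 := rep_word w
    rw [hw] at h1
    exact (rep_packOf σ).unique h1 ▸ hword w
  have hle : M24 ≤ toM24.range.map M24.subtype := by
    conv_lhs => rw [← M24_generated]
    rw [Subgroup.closure_le]
    rintro σ (rfl | rfl | rfl)
    · refine key _ (genWords.getD 2 []) (Eq.trans (congrArg (fun l => l.getD 2 0) hp) ?_)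
      decide +kernel
    · refine key _ (genWords.getD 1 []) (Eq.trans (congrArg (fun l => l.getD 1 0) hp) ?_)
      decide +kernel
    · refine key _ (genWords.getD 0 []) (Eq.trans (congrArg (fun l => l.getD 0 0) hp) ?_)
      rw [packOf_cubeTwist]
      decide +kernel
  obtain ⟨h, hh, e⟩ := hle g.2
  exact Subtype.ext e ▸ hh

theorem K0_commutator : commutator K0 = ⊤ := by
  let π : K0 →* Abelianization K0 := Abelianization.of
  have hx : π (L 0) * π (L 0) = 1 := by rw [← map_mul, ← mul_one (L 0 * L 0), mul_assoc, L_zero_mul, map_one]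
  have hy : π (L 2) * (π (L 2) * π (L 2)) = 1 := by
    rw [← map_mul, ← map_mul, ← mul_one (L 2 * (L 2 * L 2)), mul_assoc, mul_assoc, L_two_cube, map_one]
  have h23 : (π (L 0) * π (L 2)) ^ 23 = 1 := by
    have h := congrArg π (val_rel (w := rep 23 [0, 2]) (by simp [words7]))
    rw [val_rep, map_pow, map_one] at h
    simpa [val] using h
  have hx2 : π (L 0) ^ 2 = 1 := by rw [pow_two]; exact hx
  have hy3 : π (L 2) ^ 3 = 1 := by rw [pow_three]; exact hy
  have e6 : (π (L 0) * π (L 2)) ^ 6 = 1 := by
    rw [mul_pow, show (6 : ℕ) = 2 * 3 from rfl, pow_mul, hx2, show 2 * 3 = 3 * 2 from rfl, pow_mul, hy3]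
    simp
  have he : π (L 0) * π (L 2) = 1 := by
    have := pow_gcd_eq_one.2 ⟨h23, e6⟩
    simpa using this
  have hy1 : π (L 2) = 1 := by
    have e : π (L 2) = π (L 0) := by
      have := inv_eq_of_mul_eq_one_right he
      rw [← this]
      exact inv_eq_of_mul_eq_one_right hx
    rw [e] at hy3 ⊢
    simpa [pow_succ, hx] using hy3
  have hx1 : π (L 0) = 1 := by simpa [hy1] using he
  rw [eq_top_iff, ← PresentedGroup.closure_range_of rels, Subgroup.closure_le]
  rintro _ ⟨i, rfl⟩
  refine (QuotientGroup.eq_one_iff _).1 ?_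
  fin_cases i
  · exact hx1
  · exact hy1

theorem toM24_injective : Function.Injective toM24 := by
  obtain ⟨hfin, hcard⟩ := card_K0
  haveI := hfin
  set N := toM24.ker with hN
  have hcN : Nat.card N ≤ 12 := by
    have h := Subgroup.card_eq_card_quotient_mul_card_subgroup N
    rw [Nat.card_congr (QuotientGroup.quotientKerEquivOfSurjective toM24 toM24_surjective).toEquiv, M24_card]
      at h
    omega
  have hcard' : Nat.card K0 = 244823040 * Nat.card N := by
    rw [Subgroup.card_eq_card_quotient_mul_card_subgroup N,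
      Nat.card_congr (QuotientGroup.quotientKerEquivOfSurjective toM24 toM24_surjective).toEquiv, M24_card]
  -- conjugation on the nontrivial elements of the kernel
  let S := {n : K0 // n ∈ N ∧ n ≠ 1}
  let ψ : K0 →* Equiv.Perm S :=
    { toFun := fun g =>
        { toFun := fun n => ⟨g * n.1 * g⁻¹, (MonoidHom.normal_ker toM24).conj_mem n.1 n.2.1 g, by
            intro h; exact n.2.2 (conj_eq_one_iff.1 h)⟩
          invFun := fun n => ⟨g⁻¹ * n.1 * g, by
            have h := (MonoidHom.normal_ker toM24).conj_mem n.1 n.2.1 g⁻¹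
            rwa [inv_inv] at h, by
            intro h; exact n.2.2 ((conj_eq_one_iff (a := g⁻¹)).1 (by simpa using h))⟩
          left_inv := fun n => Subtype.ext (by simp [mul_assoc])
          right_inv := fun n => Subtype.ext (by simp [mul_assoc]) }
      map_one' := by ext n; simp
      map_mul' := fun a b => by ext n; simp [mul_assoc] }
  have hS : Nat.card S ≤ 11 := by
    have h1 : Nat.card (Option S) ≤ Nat.card N := by
      refine Nat.card_le_card_of_injective (fun o => o.elim (1 : N) fun n => ⟨n.1, n.2.1⟩) ?_
      rintro (_ | a) (_ | b) h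
      · rfl
      · exact absurd (congrArg Subtype.val h).symm b.2.2
      · exact absurd (congrArg Subtype.val h) a.2.2
      · exact congrArg some (Subtype.ext (congrArg Subtype.val h :))
    rw [Finite.card_option] at h1
    omega
  have hψ : ψ.ker = ⊤ := by
    haveI : IsSimpleGroup ↥M24 := M24_isSimple
    rcases Subgroup.Normal.eq_bot_or_eq_top (Subgroup.Normal.map (MonoidHom.normal_ker ψ) toM24
      toM24_surjective) with h | h
    · exfalso
      have hle : ψ.ker ≤ N := (Subgroup.map_eq_bot_iff _).1 h
      have h1 := Subgroup.card_le_of_le hle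
      have h2 : Nat.card (K0 ⧸ ψ.ker) ≤ Nat.factorial 11 := by
        rw [Nat.card_congr (QuotientGroup.quotientKerEquivRange ψ).toEquiv]
        refine (Nat.card_le_card_of_injective (Subtype.val : ψ.range → Equiv.Perm S) Subtype.val_injective).trans ?_
        rw [Nat.card_perm]
        exact Nat.factorial_le hS
      have h3 := Subgroup.card_eq_card_quotient_mul_card_subgroup ψ.ker
      have h4 : Nat.card K0 ≤ Nat.factorial 11 * Nat.card N := h3 ▸ Nat.mul_le_mul h2 h1
      rw [hcard'] at h4
      have hpos : 0 < Nat.card N := Nat.card_pos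
      have := Nat.le_of_mul_le_mul_right h4 hpos
      norm_num [Nat.factorial] at this
    · have hsup : N ⊔ ψ.ker = ⊤ := by
        rw [eq_top_iff]
        intro g _
        have hg : toM24 g ∈ ψ.ker.map toM24 := h ▸ Subgroup.mem_top _
        obtain ⟨c, hc, e⟩ := hg
        have hn : g * c⁻¹ ∈ N := by rw [hN, MonoidHom.mem_ker, map_mul, map_inv, e, mul_inv_cancel]
        simpa using Subgroup.mul_mem_sup hn hc
      by_contra hne
      -- a perfect group has no nontrivial solvable quotient
      have hsol : Group.IsSolvable (K0 ⧸ ψ.ker) := by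
        have hsurj : Function.Surjective ((QuotientGroup.mk' ψ.ker).comp N.subtype) := by
          rintro ⟨g⟩
          obtain ⟨n, hn, c, hc, e⟩ := Subgroup.mem_sup_of_normal_right.1 (hsup ▸ Subgroup.mem_top g)
          refine ⟨⟨n, hn⟩, ?_⟩
          show (n : K0 ⧸ ψ.ker) = (g : K0 ⧸ ψ.ker)
          rw [QuotientGroup.eq, ← e]
          simpa using hc
        have : Group.IsSolvable N := CfsgLib.Known.GLFourTwo.isSolvable_of_lt_sixty (by omega)
        exact Group.isSolvable_of_surjective hsurj
      have hperf : commutator (K0 ⧸ ψ.ker) = ⊤ := by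
        have h := Subgroup.map_commutator (⊤ : Subgroup K0) ⊤ (QuotientGroup.mk' ψ.ker)
        rw [← commutator_def, K0_commutator, Subgroup.map_top_of_surjective _ (QuotientGroup.mk'_surjective _),
          ← commutator_def] at h
        exact h.symm
      have : Nontrivial (K0 ⧸ ψ.ker) := QuotientGroup.nontrivial_iff.2 hne
      exact (Group.IsSolvable.commutator_lt_top_of_nontrivial (G := K0 ⧸ ψ.ker)).ne hperf
  have hcentral : N ≤ Subgroup.center K0 := by
    intro n hn
    rw [Subgroup.mem_center_iff]
    intro g
    by_cases h1 : n = 1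
    · simp [h1]
    · have hg : ψ g = 1 := MonoidHom.mem_ker.1 (hψ ▸ Subgroup.mem_top g)
      have := congrArg (fun σ : Equiv.Perm S => (σ ⟨n, hn, h1⟩).1) hg
      exact mul_inv_eq_iff_eq_mul.1 this
  have hstem : IsStemExtension toM24 := ⟨toM24_surjective, hcentral, by rw [K0_commutator]; exact le_top⟩
  obtain ⟨π, hπ⟩ := CfsgLib.Sporadic.MTwentyFourMult.multiplier_trivial.2 K0 toM24 hstem
  rw [← MonoidHom.ker_eq_bot_iff, Subgroup.eq_bot_iff_forall]
  intro n hn
  obtain ⟨a, ha⟩ := hπ ⟨n, hn⟩
  have : a = 1 := Subsingleton.elim _ _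
  rw [this, map_one] at ha
  exact (congrArg Subtype.val ha).symm

end CfsgLib.Sporadic.J4Pres
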