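import Cfsg.Agent.Lib.Sporadic.J4Rep.Hom
import Cfsg.Agent.Lib.Sporadic.J4Rep.Iso

/-!
# The first two generators of the presented J4 generate a copy of M24 (owner: helper21)
-/

set_option autoImplicit false
set_option maxRecDepth 20000

namespace CfsgLib.Sporadic.J4Rep

open Cfsg
open CfsgLib.Sporadic (J4Pres.K0)

/-- A letter in the presented J4. -/
def jL (k : ℕ) : Spor.J4 :=
  match k with
  | 0 => PresentedGroup.of Spor.J4.Gen.x
  | 1 => (PresentedGroup.of Spor.J4.Gen.x)⁻¹
  | 2 => PresentedGroup.of Spor.J4.Gen.y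
  | 3 => (PresentedGroup.of Spor.J4.Gen.y)⁻¹
  | 4 => PresentedGroup.of Spor.J4.Gen.t
  | 5 => (PresentedGroup.of Spor.J4.Gen.t)⁻¹
  | _ => 1

theorem jL_rel {r : FreeGroup Spor.J4.Gen} (hr : r ∈ Spor.J4.extra) :
    ((r.toWord.map code).map jL).prod = 1 := by
  have h : PresentedGroup.mk (Spor.coxRelators Spor.J4.edges ∪ {r | r ∈ Spor.J4.extra}) r = 1 :=
    PresentedGroup.one_of_mem (Or.inr hr)
  have e : FreeGroup.lift (fun g => (PresentedGroup.of g : Spor.J4)) =
      PresentedGroup.mk (Spor.coxRelators Spor.J4.edges ∪ {r | r ∈ Spor.J4.extra}) :=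
    FreeGroup.ext_hom _ _ fun a => by rw [FreeGroup.lift_apply_of]; rfl
  rw [← e, ← FreeGroup.mk_toWord (x := r), FreeGroup.lift_mk] at h
  rw [List.map_map]
  refine Eq.trans (congrArg List.prod (List.map_congr_left fun p _ => ?_)) h
  obtain ⟨g, b⟩ := p
  cases g <;> cases b <;> rfl

/-- Reading the first generator for its inverse. -/
def sub1 (k : ℕ) : ℕ := if k = 1 then 0 else k

theorem jL_x_sq : jL 0 * jL 0 = 1 := by
  have h := jL_rel (r := Spor.J4.x ^ 2) (by simp [Spor.J4.extra])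
  rwa [show ((Spor.J4.x ^ 2).toWord.map code) = [0, 0] by decide +kernel, List.map_cons, List.map_singleton,
    List.prod_cons, List.prod_singleton] at h

theorem jL_sub1 (k : ℕ) : jL (sub1 k) = jL k := by
  unfold sub1
  split_ifs with h
  · subst h
    exact (inv_eq_of_mul_eq_one_right jL_x_sq).symm
  · rfl

theorem words7_eq :
    ((relWords.take 7).map (List.map sub1)) = J4Pres.words7 := by decide +kernel

/-- The images of the two generators. -/
def jgen (i : Fin 2) : Spor.J4 := jL (2 * i.val)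

theorem lift_fr {k : ℕ} (hk : k < 4) : FreeGroup.lift jgen (J4Pres.fr k) = jL k := by
  interval_cases k <;> simp [J4Pres.fr, jgen, jL]

theorem jrels : ∀ r ∈ J4Pres.rels, FreeGroup.lift jgen r = 1 := by
  rintro r ⟨w, hw, rfl⟩
  have hw4 : J4Pres.words7.all (fun w => w.all fun k => Nat.blt k 4) = true := by decide +kernel
  have h4 := List.all_eq_true.1 (List.all_eq_true.1 hw4 w hw)
  rw [map_list_prod, List.map_map,
    List.map_congr_left (f := ⇑(FreeGroup.lift jgen) ∘ J4Pres.fr) (g := jL)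
      fun k hk => lift_fr (by simpa using h4 k hk)]
  obtain ⟨u, hu, rfl⟩ := List.mem_map.1 (words7_eq ▸ hw)
  obtain ⟨r, hr, rfl⟩ := List.mem_map.1 (List.mem_of_mem_take hu)
  refine Eq.trans ?_ (jL_rel hr)
  rw [List.map_map]
  exact congrArg List.prod (List.map_congr_left fun k _ => jL_sub1 k)

/-- The map into the presented J4. -/
noncomputable def toJ4 : J4Pres.K0 →* Spor.J4 := PresentedGroup.toGroup jrels

theorem toJ4_injective : Function.Injective toJ4 := by
  haveI : IsSimpleGroup ↥M24 := M24_isSimple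
  let e : J4Pres.K0 ≃* ↥M24 :=
    MulEquiv.ofBijective J4Pres.toM24 ⟨J4Pres.toM24_injective, J4Pres.toM24_surjective⟩
  haveI : Nontrivial J4Pres.K0 := e.toEquiv.nontrivial
  haveI : IsSimpleGroup J4Pres.K0 := e.isSimpleGroup
  rw [← MonoidHom.ker_eq_bot_iff]
  refine (Subgroup.Normal.eq_bot_or_eq_top (MonoidHom.normal_ker toJ4)).resolve_right fun h => ?_
  have hm : (PresentedGroup.of (0 : Fin 2) : J4Pres.K0) ∈ toJ4.ker := h ▸ Subgroup.mem_top _
  rw [MonoidHom.mem_ker, toJ4, PresentedGroup.toGroup.of] at hm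
  have hx : rho (PresentedGroup.of Spor.J4.Gen.x) = 1 := by
    have : jgen 0 = PresentedGroup.of Spor.J4.Gen.x := rfl
    rw [← this, hm, map_one]
  rw [rho, PresentedGroup.toGroup.of] at hx
  exact gen_x_ne_one hx

theorem range_toJ4 : toJ4.range =
    (Subgroup.closure ({Spor.J4.x, Spor.J4.y} : Set (FreeGroup Spor.J4.Gen))).map
      (PresentedGroup.mk (Spor.coxRelators Spor.J4.edges ∪ {r | r ∈ Spor.J4.extra})) := by
  rw [MonoidHom.range_eq_map, ← PresentedGroup.closure_range_of J4Pres.rels, MonoidHom.map_closure,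
    MonoidHom.map_closure, ← Set.range_comp, Set.image_pair]
  congr 1
  ext z
  simp only [Set.mem_range, Function.comp_apply, toJ4, PresentedGroup.toGroup.of, Set.mem_insert_iff,
    Set.mem_singleton_iff]
  constructor
  · rintro ⟨i, rfl⟩
    fin_cases i
    · exact Or.inl rfl
    · exact Or.inr rfl
  · rintro (rfl | rfl)
    · exact ⟨0, rfl⟩
    · exact ⟨1, rfl⟩

/-- The first two generators generate M24. -/
theorem xy_iso_M24 :
    Nonempty (((Subgroup.closure ({Spor.J4.x, Spor.J4.y} : Set (FreeGroup Spor.J4.Gen))).map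
      (PresentedGroup.mk (Spor.coxRelators Spor.J4.edges ∪ {r | r ∈ Spor.J4.extra}))) ≃* ↥M24) :=
  ⟨(MulEquiv.subgroupCongr range_toJ4.symm).trans
    ((MonoidHom.ofInjective toJ4_injective).symm.trans
      (MulEquiv.ofBijective J4Pres.toM24 ⟨J4Pres.toM24_injective, J4Pres.toM24_surjective⟩))⟩

end CfsgLib.Sporadic.J4Rep
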