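import Cfsg.Agent.Lib.Sporadic.J4Rep.Linear
import Cfsg.Agent.Lib.Sporadic.J4Rep.Data
import Cfsg.Prelude.Def_Spor_J4

/-!
# The presented J4 acts on 112-bit masks (owner: helper21)

Letters: 0, 1 the first generator, 2, 3 the second one and its inverse, 4, 5 the third one.
-/

set_option autoImplicit false
set_option maxRecDepth 40000

namespace CfsgLib.Sporadic.J4Rep

open Cfsg

/-- The table of letters. -/
def tbl : ℕ → List ℕ
  | 0 | 1 => xMat
  | 2 => yMat
  | 3 => yiMat
  | 4 | 5 => tMat
  | _ => []

theorem tbl_lt {k : ℕ} (hk : k < 6) : ∀ c ∈ tbl k, c < 2 ^ 112 := by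
  intro c hc
  have h : (List.range 6).all (fun k => (tbl k).all fun c => Nat.blt c (2 ^ 112)) = true := by decide +kernel
  have h' := List.all_eq_true.1 (List.all_eq_true.1 h k (List.mem_range.2 hk)) c hc
  simpa using h'

/-- The vectors. -/
abbrev V : Type := {v : ℕ // v < 2 ^ 112}

/-- The inverse letter. -/
def opp (k : ℕ) : ℕ := k ^^^ 1

theorem runW_pair {w : List ℕ} (h : fixesUnits tbl w 112 = true) (v : V) : runW tbl w v.1 = v.1 :=
  runW_eq_self tbl w 112 h v.1 v.2

theorem inv_check : (List.range 6).all (fun k => fixesUnits tbl [opp k, k] 112) = true := by decide +kernel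

theorem opp_lt {k : ℕ} (hk : k < 6) : opp k < 6 := by unfold opp; interval_cases k <;> decide

theorem opp_opp (k : ℕ) : opp (opp k) = k := by simp [opp, Nat.xor_assoc]

theorem app_opp_app {k : ℕ} (hk : k < 6) {v : ℕ} (hv : v < 2 ^ 112) : app (tbl (opp k)) (app (tbl k) v) = v :=
  runW_eq_self tbl [opp k, k] 112 (List.all_eq_true.1 inv_check k (List.mem_range.2 hk)) v hv

/-- A letter as a permutation of the vectors. -/
noncomputable def letter (k : ℕ) : Equiv.Perm V :=
  if hk : k < 6 then
    { toFun := fun v => ⟨app (tbl k) v.1, app_lt (tbl_lt hk) v.1⟩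
      invFun := fun v => ⟨app (tbl (opp k)) v.1, app_lt (tbl_lt (opp_lt hk)) v.1⟩
      left_inv := fun v => Subtype.ext (app_opp_app hk v.2)
      right_inv := fun v => Subtype.ext (by
        have h := app_opp_app (opp_lt hk) v.2
        rwa [opp_opp] at h) }
  else 1

theorem letter_apply {k : ℕ} (hk : k < 6) (v : V) : (letter k v).1 = app (tbl k) v.1 := by simp [letter, hk]

theorem letter_inv {k : ℕ} (hk : k < 6) : (letter k)⁻¹ = letter (opp k) := by
  apply Equiv.ext
  intro v
  apply Subtype.ext
  rw [letter_apply (opp_lt hk)]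
  simp [letter, hk]

theorem prod_apply : ∀ {w : List ℕ}, (∀ k ∈ w, k < 6) → ∀ v : V, ((w.map letter).prod v).1 = runW tbl w v.1
  | [], _, _ => rfl
  | k :: w, h, v => by
    rw [List.map_cons, List.prod_cons, Equiv.Perm.mul_apply, letter_apply (h k List.mem_cons_self),
      prod_apply fun j hj => h j (List.mem_cons_of_mem _ hj)]
    rfl

theorem prod_eq_one {w : List ℕ} (hw : w.all (fun k => Nat.blt k 6) = true) (h : fixesUnits tbl w 112 = true) :
    (w.map letter).prod = 1 := by
  apply Equiv.ext
  intro v
  apply Subtype.ext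
  rw [prod_apply (fun k hk => by simpa using List.all_eq_true.1 hw k hk) v, runW_pair h v]
  rfl

/-- The code of a signed generator. -/
def code : Spor.J4.Gen × Bool → ℕ
  | (.x, true) => 0 | (.x, false) => 1
  | (.y, true) => 2 | (.y, false) => 3
  | (.t, true) => 4 | (.t, false) => 5

/-- The images of the generators. -/
noncomputable def gen (g : Spor.J4.Gen) : Equiv.Perm V := letter (code (g, true))

theorem lift_gen (r : FreeGroup Spor.J4.Gen) :
    FreeGroup.lift gen r = ((r.toWord.map code).map letter).prod := by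
  conv_lhs => rw [← FreeGroup.mk_toWord (x := r)]
  rw [FreeGroup.lift_mk, List.map_map]
  congr 1
  refine List.map_congr_left fun p _ => ?_
  obtain ⟨g, b⟩ := p
  cases b
  · rw [cond_false, gen, letter_inv (by cases g <;> decide)]
    cases g <;> rfl
  · rfl

/-- The relator words. -/
def relWords : List (List ℕ) := Spor.J4.extra.map fun r => r.toWord.map code

theorem relWords_ok :
    relWords.all (fun w => w.all (fun k => Nat.blt k 6) && fixesUnits tbl w 112) = true := by decide +kernel

theorem rels_one : ∀ r ∈ Spor.coxRelators Spor.J4.edges ∪ {r | r ∈ Spor.J4.extra}, FreeGroup.lift gen r = 1 := by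
  rintro r (⟨a, ha, -⟩ | hr)
  · simp [Spor.J4.edges, Spor.coxNodes] at ha
  · have h := List.all_eq_true.1 relWords_ok (r.toWord.map code) (List.mem_map.2 ⟨r, hr, rfl⟩)
    rw [Bool.and_eq_true] at h
    rw [lift_gen, prod_eq_one h.1 h.2]

/-- The representation. -/
noncomputable def rho : Spor.J4 →* Equiv.Perm V := PresentedGroup.toGroup rels_one

theorem gen_x_ne_one : gen Spor.J4.Gen.x ≠ 1 := by
  intro h
  have hb : Nat.beq (app (tbl 0) 1) 1 = false := by decide +kernel
  have h1 : app (tbl 0) 1 = 1 := by
    have := congrArg (fun e : Equiv.Perm V => (e ⟨1, by norm_num⟩).1) h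
    simp only [gen, code, Equiv.Perm.one_apply] at this
    rwa [letter_apply (by norm_num)] at this
  rw [h1] at hb
  simp at hb

end CfsgLib.Sporadic.J4Rep
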