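import Mathlib

/-!
# Linear maps of bit masks (owner: helper21)

A list of masks is read as the columns of a linear map over two elements. Kernel-friendly evaluation, and the
reduction of identities between such maps to the unit vectors.
-/

set_option autoImplicit false

namespace CfsgLib.Sporadic.J4Rep

/-- The image of a mask under the map with the given columns. -/
noncomputable def app (A : List ℕ) : ℕ → ℕ :=
  List.rec (motive := fun _ => ℕ → ℕ) (fun _ => 0)
    (fun c _ ih v => cond (Nat.beq v 0) 0
      (cond (Nat.beq (Nat.land v 1) 0) (ih (Nat.shiftRight v 1)) (Nat.xor c (ih (Nat.shiftRight v 1))))) A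

theorem app_nil (v : ℕ) : app [] v = 0 := rfl

theorem app_zero (A : List ℕ) : app A 0 = 0 := by cases A <;> rfl

theorem app_cons (c : ℕ) (A : List ℕ) (v : ℕ) :
    app (c :: A) v = (if v.testBit 0 then c else 0) ^^^ app A (v >>> 1) := by
  show cond (Nat.beq v 0) 0 (cond (Nat.beq (v &&& 1) 0) (app A (v >>> 1)) (c ^^^ app A (v >>> 1))) = _
  by_cases hv : v = 0
  · subst hv
    simp [app_zero]
  · have h : Nat.beq v 0 = false := Bool.eq_false_iff.2 fun h => hv (Nat.eq_of_beq_eq_true h)
    rw [h, cond_false]
    rw [Nat.testBit_zero, Nat.and_one_is_mod]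
    rcases Nat.mod_two_eq_zero_or_one v with h' | h' <;> rw [h']
    · rw [Nat.beq_refl 0]; simp
    · rw [show Nat.beq 1 0 = false from rfl]; simp

theorem app_xor : ∀ (A : List ℕ) (a b : ℕ), app A (a ^^^ b) = app A a ^^^ app A b
  | [], a, b => by simp [app_nil]
  | c :: A, a, b => by
    rw [app_cons, app_cons, app_cons, Nat.shiftRight_xor_distrib, app_xor A, Nat.testBit_xor]
    have e : (if (a.testBit 0 != b.testBit 0) = true then c else 0) =
        (if a.testBit 0 = true then c else 0) ^^^ (if b.testBit 0 = true then c else 0) := by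
      cases a.testBit 0 <;> cases b.testBit 0 <;> simp
    rw [show (a.testBit 0 ^^ b.testBit 0) = (a.testBit 0 != b.testBit 0) from rfl, e]
    ac_rfl

theorem app_lt {n : ℕ} : ∀ {A : List ℕ}, (∀ c ∈ A, c < 2 ^ n) → ∀ v, app A v < 2 ^ n
  | [], _, v => Nat.two_pow_pos n
  | c :: A, h, v => by
    rw [app_cons]
    refine Nat.xor_lt_two_pow ?_ (app_lt (fun d hd => h d (List.mem_cons_of_mem _ hd)) _)
    split_ifs
    · exact h c List.mem_cons_self
    · exact Nat.two_pow_pos n

/-- A word in the maps of a table, the last letter acting first. -/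
noncomputable def runW (tbl : ℕ → List ℕ) (w : List ℕ) (v : ℕ) : ℕ :=
  List.rec (motive := fun _ => ℕ) v (fun x _ ih => app (tbl x) ih) w

theorem runW_xor (tbl : ℕ → List ℕ) : ∀ (w : List ℕ) (a b : ℕ),
    runW tbl w (a ^^^ b) = runW tbl w a ^^^ runW tbl w b
  | [], _, _ => rfl
  | x :: w, a, b => by
    show app (tbl x) (runW tbl w (a ^^^ b)) = app (tbl x) (runW tbl w a) ^^^ app (tbl x) (runW tbl w b)
    rw [runW_xor tbl w, app_xor]

theorem runW_zero (tbl : ℕ → List ℕ) : ∀ w : List ℕ, runW tbl w 0 = 0
  | [] => rfl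
  | x :: w => by
    show app (tbl x) (runW tbl w 0) = 0
    rw [runW_zero tbl w, app_zero]

/-- The check that a word fixes the first `n` unit vectors. -/
noncomputable def fixesUnits (tbl : ℕ → List ℕ) (w : List ℕ) (n : ℕ) : Bool :=
  Nat.rec true (fun i ih => cond (Nat.beq (runW tbl w (Nat.shiftLeft 1 i)) (Nat.shiftLeft 1 i)) ih false) n

theorem runW_eq_self (tbl : ℕ → List ℕ) (w : List ℕ) : ∀ n, fixesUnits tbl w n = true →
    ∀ v < 2 ^ n, runW tbl w v = v
  | 0, _, v, hv => by
    obtain rfl : v = 0 := by simpa using hv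
    exact runW_zero tbl w
  | n + 1, h, v, hv => by
    have h' : cond (Nat.beq (runW tbl w (1 <<< n)) (1 <<< n)) (fixesUnits tbl w n) false = true := h
    cases hb : Nat.beq (runW tbl w (1 <<< n)) (1 <<< n) with
    | false => rw [hb] at h'; simp at h'
    | true =>
      rw [hb, cond_true] at h'
      have htop : runW tbl w (2 ^ n) = 2 ^ n := by
        have := Nat.eq_of_beq_eq_true hb
        rwa [Nat.one_shiftLeft] at this
      have hlow := runW_eq_self tbl w n h' (v % 2 ^ n) (Nat.mod_lt _ (Nat.two_pow_pos n))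
      have e : v = (if v.testBit n then 2 ^ n else 0) ^^^ (v % 2 ^ n) := by
        refine Nat.eq_of_testBit_eq fun i => ?_
        rw [Nat.testBit_xor, Nat.testBit_mod_two_pow]
        rcases Nat.lt_trichotomy i n with hi | rfl | hi
        · split <;> simp [hi, (Nat.ne_of_lt hi).symm]
        · cases hvi : v.testBit i <;> simp
        · have hz : v.testBit i = false :=
            Nat.testBit_eq_false_of_lt (lt_of_lt_of_le hv (Nat.pow_le_pow_right (by norm_num) hi))
          split <;> simp [hz, Nat.not_lt.2 hi.le, (Nat.ne_of_lt hi)]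
      rw [e, runW_xor, hlow]
      split
      · rw [htop]
      · rw [runW_zero]

end CfsgLib.Sporadic.J4Rep
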